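import Cfsg.Agent.Lib.Leech.Orbits.Data

/-! Kernel verification of the certificates. -/

set_option autoImplicit false

namespace CfsgLib.Leech.Orbits

theorem check_two4 : caseB two4Vec two4Piv two4Free two4Cert target32 = true := by decide +kernel
theorem check_octad : caseB octadVec octadPiv octadFree octadCert target32 = true := by decide +kernel
theorem check_odd3 : (leechB (vecOf odd3Vec) && chainB odd3Vec odd3Cert target32) = true := by decide +kernel
theorem check_dodecad : caseB dodecadVec dodecadPiv dodecadFree dodecadCert target48 = true := by decide +kernel
theorem check_octad4 : caseB octad4Vec octad4Piv octad4Free octad4Cert target48 = true := by decide +kernel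
theorem check_odd5 : (leechB (vecOf odd5Vec) && chainB odd5Vec odd5Cert target48) = true := by decide +kernel
theorem check_odd333 : (leechB (vecOf odd333Vec) && chainB odd333Vec odd333Cert target48) = true := by decide +kernel
theorem check_one8 : caseB one8Vec one8Piv one8Free one8Cert target64 = true := by decide +kernel
theorem check_four4 : caseB four4Vec four4Piv four4Free four4Cert target64 = true := by decide +kernel
theorem check_octad6 : caseB octad6Vec octad6Piv octad6Free octad6Cert target64 = true := by decide +kernel
theorem check_octad44 : caseB octad44Vec octad44Piv octad44Free octad44Cert target64 = true := by decide +kernel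
theorem check_dodecad4 : caseB dodecad4Vec dodecad4Piv dodecad4Free dodecad4Cert target64 = true := by decide +kernel
theorem check_sixteen : caseB sixteenVec sixteenPiv sixteenFree sixteenCert target64 = true := by decide +kernel
theorem check_odd533 : (leechB (vecOf odd533Vec) && chainB odd533Vec odd533Cert target64) = true := by decide +kernel
theorem check_odd33333 : (leechB (vecOf odd33333Vec) && chainB odd33333Vec odd33333Cert target64) = true := by decide +kernel

end CfsgLib.Leech.Orbits
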