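import Cfsg.Agent.Lib.Leech.Orbits.Checks
import Cfsg.Agent.Lib.Leech.Trans.Basic

/-! Every lattice vector of squared length 32, 48, 64 is carried to the representative. -/

set_option autoImplicit false

namespace CfsgLib.Leech.Orbits

open Cfsg CfsgLib
open scoped Pointwise

variable {x : GolayPt → ℤ}

theorem monoFun_zero (σ : Equiv.Perm GolayPt) (x : GolayPt → ℤ) :
    monoFun σ (0 : GolayPt → ZMod 2) x = x ∘ σ := by
  funext i; simp [monoFun]

theorem reach_comp {σ : Equiv.Perm GolayPt} (hσ : σ ∈ M24) (hx : x ∈ leechLattice) :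
    Reach x (x ∘ σ) := by
  rw [← monoFun_zero]; exact reach_mono hσ (zero_mem _) hx

/-- The first base points, as a set. -/
def baseSet (k : ℕ) : Finset GolayPt := ((Trans.basePt.take k).map Golay.pt).toFinset

theorem smul_baseSet {σ : Equiv.Perm GolayPt} {k : ℕ} {l : List GolayPt}
    (h : (Trans.basePt.take k).map (fun i => σ (Golay.pt i)) = l) : σ • baseSet k = l.toFinset := by
  rw [← h]
  ext p
  simp only [baseSet, Finset.mem_smul_finset, List.mem_toFinset, List.mem_map,
    Equiv.Perm.smul_def]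
  constructor
  · rintro ⟨q, ⟨i, hi, rfl⟩, rfl⟩; exact ⟨i, hi, rfl⟩
  · rintro ⟨i, hi, rfl⟩; exact ⟨_, ⟨i, hi, rfl⟩, rfl⟩

theorem exists_smul_baseSet {k : ℕ} (hk : k ≤ 5) (s : Finset GolayPt) (hs : s.card = k) :
    ∃ σ ∈ M24, σ • baseSet k = s := by
  obtain ⟨σ, hσ, h⟩ := Trans.exists_map_base k hk s.toList s.nodup_toList (by simp [hs])
  exact ⟨σ, hσ, by rw [smul_baseSet h, Finset.toList_toFinset]⟩

theorem smul_mem_supports {σ : Equiv.Perm GolayPt} (hσ : σ ∈ M24) {s : Finset GolayPt}
    (hs : s ∈ supports (golayCode : Set (GolayPt → ZMod 2))) :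
    σ • s ∈ supports (golayCode : Set (GolayPt → ZMod 2)) := by
  have h : σ • supports (golayCode : Set (GolayPt → ZMod 2)) =
      supports (golayCode : Set (GolayPt → ZMod 2)) := hσ
  rw [← h]; exact Set.smul_mem_smul_set hs

theorem smul_mem_wordsOfWeight {σ : Equiv.Perm GolayPt} (hσ : σ ∈ M24) {w : ℕ} {s : Finset GolayPt}
    (hs : s ∈ wordsOfWeight (golayCode : Set (GolayPt → ZMod 2)) w) :
    σ • s ∈ wordsOfWeight (golayCode : Set (GolayPt → ZMod 2)) w :=
  ⟨smul_mem_supports hσ hs.1, (Finset.card_smul_finset σ s).trans hs.2⟩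

/-! ### Even vectors -/

/-- The points where the absolute value is `a`. -/
def absSet (x : GolayPt → ℤ) (a : ℤ) : Finset GolayPt := Finset.univ.filter fun p => |x p| = a

/-- The points with bit one. -/
def bitSet (x : GolayPt → ℤ) : Finset GolayPt := support₂ (bits x)

theorem mem_bitSet {p : GolayPt} : p ∈ bitSet x ↔ x p / 2 % 2 = 1 := by
  unfold bitSet support₂
  rw [Finset.mem_filter_univ]
  show ((x p / 2 : ℤ) : ZMod 2) ≠ 0 ↔ x p / 2 % 2 = 1
  rcases zmod_cast_even_or_odd (x p / 2) with ⟨h, h'⟩ | ⟨h, h'⟩ <;> rw [h', h] <;> decide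

theorem bitSet_mem (hx : x ∈ leechLattice) :
    bitSet x ∈ supports (golayCode : Set (GolayPt → ZMod 2)) :=
  ⟨_, (mem_leech_iff.1 hx).2.1, rfl⟩

theorem bitSet_card_cases (hx : x ∈ leechLattice) :
    (bitSet x).card = 0 ∨ (bitSet x).card = 8 ∨ (bitSet x).card = 12 ∨ (bitSet x).card = 16 ∨
      (bitSet x).card = 24 :=
  Golay.weight_cases (mem_leech_iff.1 hx).2.1

theorem abs_le_of_norm (hN : sqNorm x ≤ 80) (p : GolayPt) : -8 ≤ x p ∧ x p ≤ 8 := by
  have h1 : x p ^ 2 ≤ sqNorm x :=
    Finset.single_le_sum (f := fun j => x j ^ 2) (fun j _ => sq_nonneg _) (Finset.mem_univ p)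
  constructor <;> nlinarith

theorem even_value (hN : sqNorm x ≤ 80) (he : ∀ p, x p % 2 = 0) (p : GolayPt) :
    |x p| = (if |x p| = 8 then 8 else if |x p| = 6 then 6 else if |x p| = 4 then 4
        else if x p / 2 % 2 = 1 then 2 else 0) ∧
      x p ^ 2 = (if x p / 2 % 2 = 1 then 4 else 0) + (if |x p| = 6 then 32 else 0) +
        (if |x p| = 4 then 16 else 0) + (if |x p| = 8 then 64 else 0) ∧
      (|x p| = 6 → x p / 2 % 2 = 1) ∧
      ((|x p| = 4 ∨ |x p| = 8) → x p / 2 % 2 = 0) := by
  obtain ⟨h1, h2⟩ := abs_le_of_norm hN p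
  have := he p
  revert h1 h2 this
  generalize x p = a
  intro h1 h2 he'
  interval_cases a <;> first | omega | decide

theorem sum_indicator (c : ℤ) (P : GolayPt → Prop) [DecidablePred P] :
    (∑ p, if P p then c else 0) = c * ((Finset.univ.filter P).card : ℤ) := by
  rw [← Finset.sum_filter, Finset.sum_const, nsmul_eq_mul, mul_comm]

theorem even_norm_eq (hN : sqNorm x ≤ 80) (he : ∀ p, x p % 2 = 0) :
    sqNorm x = 4 * ((bitSet x).card : ℤ) + 32 * ((absSet x 6).card : ℤ) +
      16 * ((absSet x 4).card : ℤ) + 64 * ((absSet x 8).card : ℤ) := by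
  have hb : bitSet x = Finset.univ.filter fun p => x p / 2 % 2 = 1 := by
    ext p; rw [mem_bitSet, Finset.mem_filter_univ]
  rw [hb, absSet, absSet, absSet, ← sum_indicator, ← sum_indicator, ← sum_indicator, ← sum_indicator,
    ← Finset.sum_add_distrib, ← Finset.sum_add_distrib, ← Finset.sum_add_distrib]
  exact Finset.sum_congr rfl fun p _ => (even_value hN he p).2.1

theorem absSix_subset (hN : sqNorm x ≤ 80) (he : ∀ p, x p % 2 = 0) : absSet x 6 ⊆ bitSet x :=
  fun p hp => mem_bitSet.2 ((even_value hN he p).2.2.1 (Finset.mem_filter.1 hp).2)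

theorem absFour_disjoint (hN : sqNorm x ≤ 80) (he : ∀ p, x p % 2 = 0) :
    Disjoint (bitSet x) (absSet x 4) := by
  rw [Finset.disjoint_left]
  intro p hp hp'
  rw [mem_bitSet, (even_value hN he p).2.2.2 (Or.inl (Finset.mem_filter.1 hp').2)] at hp
  exact absurd hp (by decide)

/-- The absolute pattern given by four sets. -/
def patOf (S2 S4 S6 S8 : Finset GolayPt) (p : GolayPt) : ℤ :=
  if p ∈ S8 then 8 else if p ∈ S6 then 6 else if p ∈ S4 then 4 else if p ∈ S2 then 2 else 0

theorem reach_even {a : List ℤ} {piv : List (ℕ × ℕ)} {F : List ℕ}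
    {certs : List (List (ℕ × ℕ × List ℤ))} {t : List ℤ} (hc : caseB a piv F certs t = true)
    (hx : x ∈ leechLattice) (hN : sqNorm x ≤ 80) (he : ∀ p, x p % 2 = 0)
    {σ : Equiv.Perm GolayPt} (hσ : σ ∈ M24) (S2 S4 S6 S8 : Finset GolayPt)
    (h2 : σ • S2 = bitSet x) (h4 : σ • S4 = absSet x 4) (h6 : σ • S6 = absSet x 6)
    (h8 : σ • S8 = absSet x 8) (hpat : ∀ p, vecOf a p = patOf S2 S4 S6 S8 p) :
    Reach x (vecOf t) := by
  refine (reach_comp hσ hx).trans (case_sound hc (reach_comp hσ hx).mem_right fun p => ?_)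
  rw [hpat, Function.comp_apply, (even_value hN he (σ p)).1]
  have e : ∀ S T : Finset GolayPt, σ • S = T → (σ p ∈ T ↔ p ∈ S) := by
    intro S T h
    rw [← h, ← Equiv.Perm.smul_def, Finset.smul_mem_smul_finset_iff]
  have k2 := (mem_bitSet (x := x) (p := σ p)).symm.trans (e _ _ h2)
  have k4 := e _ _ h4
  have k6 := e _ _ h6
  have k8 := e _ _ h8
  simp only [absSet, Finset.mem_filter_univ] at k4 k6 k8
  simp only [patOf, k2, k4, k6, k8]

theorem smul_empty' (σ : Equiv.Perm GolayPt) : σ • (∅ : Finset GolayPt) = ∅ :=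
  Finset.smul_finset_empty σ

theorem reach_even32 (hx : x ∈ leechLattice) (hN : sqNorm x = 32) (he : ∀ p, x p % 2 = 0) :
    Reach x (vecOf target32) := by
  have hle : sqNorm x ≤ 80 := by omega
  have hn := even_norm_eq hle he
  have h6 := Finset.card_le_card (absSix_subset hle he)
  have c6 : absSet x 6 = ∅ := Finset.card_eq_zero.1 (by
    rcases bitSet_card_cases hx with h | h | h | h | h <;> omega)
  have c8 : absSet x 8 = ∅ := Finset.card_eq_zero.1 (by omega)
  rw [c6, c8] at hn
  simp only [Finset.card_empty] at hn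
  rcases bitSet_card_cases hx with h | h | h | h | h
  · obtain ⟨σ, hσ, hs⟩ := exists_smul_baseSet (by norm_num) (absSet x 4) (by omega : _ = 2)
    exact reach_even check_two4 hx hle he hσ ∅ (baseSet 2) ∅ ∅
      (by rw [smul_empty', Finset.card_eq_zero.1 h]) hs (by rw [smul_empty', c6])
      (by rw [smul_empty', c8]) (by decide +kernel)
  · obtain ⟨σ, hσ, -, hs⟩ := Trans.codeTree_sound Trans.octad_checks.1
      (s := bitSet x) ⟨bitSet_mem hx, h⟩ (Finset.disjoint_left.2 fun p _ hp => by
        simp [Golay.mem_toSet] at hp)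
    exact reach_even check_octad hx hle he hσ _ ∅ ∅ ∅ hs
      (by rw [smul_empty', Finset.card_eq_zero.1 (by omega : (absSet x 4).card = 0)])
      (by rw [smul_empty', c6]) (by rw [smul_empty', c8]) (by decide +kernel)
  all_goals omega

theorem sum_emod_eight_of_fours (hN : sqNorm x ≤ 80) (he : ∀ p, x p % 2 = 0)
    (hb : bitSet x = ∅) : (∑ p, x p) % 8 = 4 * ((absSet x 4).card : ℤ) % 8 := by
  rw [Finset.sum_int_mod, absSet, ← sum_indicator]
  refine congrArg (· % 8) (Finset.sum_congr rfl fun p _ => ?_)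
  have hp : ¬ x p / 2 % 2 = 1 := fun h => by
    have := mem_bitSet.2 h; rw [hb] at this; simp at this
  obtain ⟨h1, h2⟩ := abs_le_of_norm hN p
  have := he p
  revert h1 h2 this hp
  generalize x p = a
  intro hp h1 h2 he'
  interval_cases a <;> first | omega | decide

/-- An octad and one point outside it. -/
theorem exists_octad_point {w : ℕ} {tree root : ℕ}
    (htree : Trans.codeTreeB tree root Trans.gensFix1 w 8388608 = true)
    {s q : Finset GolayPt} (hs : s ∈ wordsOfWeight (golayCode : Set (GolayPt → ZMod 2)) w)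
    (hq : q.card = 1) (hd : Disjoint s q) :
    ∃ σ ∈ M24, σ • Golay.toSet (Golay.comb root) = s ∧ σ • baseSet 1 = q := by
  obtain ⟨σ₁, hσ₁, h1⟩ := exists_smul_baseSet (by norm_num) q hq
  have hF : Golay.toSet 8388608 = baseSet 1 := by decide +kernel
  obtain ⟨σ₂, hσ₂, h2, h3⟩ := Trans.codeTree_sound htree
    (smul_mem_wordsOfWeight (inv_mem hσ₁) hs) (by
      rw [hF, Finset.disjoint_left]
      intro p hp hp'
      rw [Finset.mem_inv_smul_finset_iff] at hp
      refine Finset.disjoint_left.1 hd hp ?_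
      rw [← h1]; exact Finset.smul_mem_smul_finset hp')
  refine ⟨σ₁ * σ₂, mul_mem hσ₁ hσ₂, ?_, ?_⟩
  · rw [mul_smul, h3, smul_inv_smul]
  · rw [mul_smul, ← hF, h2, hF, h1]

theorem reach_even48 (hx : x ∈ leechLattice) (hN : sqNorm x = 48) (he : ∀ p, x p % 2 = 0) :
    Reach x (vecOf target48) := by
  have hle : sqNorm x ≤ 80 := by omega
  have hn := even_norm_eq hle he
  have h6 := Finset.card_le_card (absSix_subset hle he)
  have c6 : absSet x 6 = ∅ := Finset.card_eq_zero.1 (by
    rcases bitSet_card_cases hx with h | h | h | h | h <;> omega)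
  have c8 : absSet x 8 = ∅ := Finset.card_eq_zero.1 (by omega)
  rw [c6, c8] at hn
  simp only [Finset.card_empty] at hn
  rcases bitSet_card_cases hx with h | h | h | h | h
  · exfalso
    have h4 := sum_emod_eight_of_fours hle he (Finset.card_eq_zero.1 h)
    have h8 := (mem_leech_iff.1 hx).2.2
    have := he none
    rw [show (absSet x 4).card = 3 by omega] at h4
    omega
  · obtain ⟨σ, hσ, hs, hq⟩ := exists_octad_point Trans.octad_checks.2.1
      (s := bitSet x) ⟨bitSet_mem hx, h⟩ (by omega : (absSet x 4).card = 1) (absFour_disjoint hle he)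
    exact reach_even check_octad4 hx hle he hσ _ (baseSet 1) ∅ ∅ hs hq
      (by rw [smul_empty', c6]) (by rw [smul_empty', c8]) (by decide +kernel)
  · obtain ⟨σ, hσ, -, hs⟩ := Trans.codeTree_sound Trans.dodecad_checks.1
      (s := bitSet x) ⟨bitSet_mem hx, h⟩ (Finset.disjoint_left.2 fun p _ hp => by
        simp [Golay.mem_toSet] at hp)
    exact reach_even check_dodecad hx hle he hσ _ ∅ ∅ ∅ hs
      (by rw [smul_empty', Finset.card_eq_zero.1 (by omega : (absSet x 4).card = 0)])
      (by rw [smul_empty', c6]) (by rw [smul_empty', c8]) (by decide +kernel)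
  all_goals omega

theorem smul_compl' (σ : Equiv.Perm GolayPt) (s : Finset GolayPt) : σ • sᶜ = (σ • s)ᶜ := by
  ext p
  simp [← Finset.inv_smul_mem_iff]

theorem compl_mem_supports {s : Finset GolayPt}
    (hs : s ∈ supports (golayCode : Set (GolayPt → ZMod 2))) :
    sᶜ ∈ supports (golayCode : Set (GolayPt → ZMod 2)) := by
  obtain ⟨w, hw, rfl⟩ := hs
  refine ⟨w + 1, golayCode.add_mem hw Golay.one_mem_golay, ?_⟩
  ext p
  simp only [support₂, Finset.mem_compl, Finset.mem_filter_univ, Pi.add_apply, Pi.one_apply]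
  rcases zmod_two_cases (w p) with h | h <;> rw [h] <;> decide

theorem reach_even64 (hx : x ∈ leechLattice) (hN : sqNorm x = 64) (he : ∀ p, x p % 2 = 0) :
    Reach x (vecOf target64) := by
  have hle : sqNorm x ≤ 80 := by omega
  have hn := even_norm_eq hle he
  have h6 := Finset.card_le_card (absSix_subset hle he)
  rcases bitSet_card_cases hx with h | h | h | h | h
  · have c6 : absSet x 6 = ∅ := Finset.card_eq_zero.1 (by omega)
    have hb : bitSet x = ∅ := Finset.card_eq_zero.1 h
    rcases (by omega : ((absSet x 8).card = 1 ∧ (absSet x 4).card = 0) ∨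
        ((absSet x 8).card = 0 ∧ (absSet x 4).card = 4)) with ⟨h8, h4⟩ | ⟨h8, h4⟩
    · obtain ⟨σ, hσ, hs⟩ := exists_smul_baseSet (by norm_num) (absSet x 8) h8
      exact reach_even check_one8 hx hle he hσ ∅ ∅ ∅ (baseSet 1)
        (by rw [smul_empty', hb]) (by rw [smul_empty', Finset.card_eq_zero.1 h4])
        (by rw [smul_empty', c6]) hs (by decide +kernel)
    · obtain ⟨σ, hσ, hs⟩ := exists_smul_baseSet (by norm_num) (absSet x 4) h4
      exact reach_even check_four4 hx hle he hσ ∅ (baseSet 4) ∅ ∅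
        (by rw [smul_empty', hb]) hs (by rw [smul_empty', c6])
        (by rw [smul_empty', Finset.card_eq_zero.1 h8]) (by decide +kernel)
  · have c8 : absSet x 8 = ∅ := Finset.card_eq_zero.1 (by omega)
    rw [c8, Finset.card_empty] at hn
    rcases (by omega : ((absSet x 6).card = 1 ∧ (absSet x 4).card = 0) ∨
        ((absSet x 6).card = 0 ∧ (absSet x 4).card = 2)) with ⟨h6', h4⟩ | ⟨h6', h4⟩
    · obtain ⟨q, hq⟩ := Finset.card_eq_one.1 h6'
      have hqS : q ∈ bitSet x := absSix_subset hle he (by rw [hq]; exact Finset.mem_singleton_self q)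
      obtain ⟨u, hu, hu'⟩ := Finset.exists_subset_card_eq (s := (bitSet x).erase q) (n := 4)
        (by rw [Finset.card_erase_of_mem hqS]; omega)
      have hnd : (q :: u.toList).Nodup := List.nodup_cons.2
        ⟨fun hm => (Finset.mem_erase.1 (hu (Finset.mem_toList.1 hm))).1 rfl, u.nodup_toList⟩
      obtain ⟨σ, hσ, hmap⟩ := Trans.exists_map_base 5 le_rfl _ hnd (by simp [hu'])
      have h5 := smul_baseSet hmap
      have hsub : σ • baseSet 5 ⊆ bitSet x := by
        intro p hp
        rw [h5, List.mem_toFinset, List.mem_cons, Finset.mem_toList] at hp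
        rcases hp with rfl | hp
        · exact hqS
        · exact (Finset.mem_erase.1 (hu hp)).2
      have hOct : Golay.toSet octadSixMask ∈ octads :=
        ⟨(Golay.toSet_mem_supports (by decide +kernel)).2 (by decide +kernel),
          by rw [Golay.card_toSet]; decide +kernel⟩
      have hB : baseSet 5 ⊆ Golay.toSet octadSixMask := by decide +kernel
      have hS2 : σ • Golay.toSet octadSixMask = bitSet x := by
        refine Golay.octad_eq_of_five (smul_mem_wordsOfWeight hσ hOct) ⟨bitSet_mem hx, h⟩ ?_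
        calc 5 = (σ • baseSet 5).card := by rw [Finset.card_smul_finset]; decide +kernel
          _ ≤ _ := Finset.card_le_card (Finset.subset_inter (Finset.smul_finset_subset_smul_finset hB) hsub)
      have hS6 : σ • baseSet 1 = absSet x 6 := by
        have hmap1 : (Trans.basePt.take 1).map (fun i => σ (Golay.pt i)) = [q] := by
          have := congrArg (List.take 1) hmap
          simpa [List.map_take, List.take_take] using this
        rw [smul_baseSet hmap1, hq]; rfl
      exact reach_even check_octad6 hx hle he hσ _ ∅ (baseSet 1) ∅ hS2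
        (by rw [smul_empty', Finset.card_eq_zero.1 h4]) hS6 (by rw [smul_empty', c8]) (by decide +kernel)
    · obtain ⟨σ₁, hσ₁, h1⟩ := exists_smul_baseSet (by norm_num) (absSet x 4) h4
      have hF : Golay.toSet 8388609 = baseSet 2 := by decide +kernel
      obtain ⟨σ₂, hσ₂, h2, h3⟩ := Trans.codeTree_sound Trans.octad_checks.2.2
        (smul_mem_wordsOfWeight (inv_mem hσ₁)
          (show bitSet x ∈ wordsOfWeight (golayCode : Set (GolayPt → ZMod 2)) 8 from ⟨bitSet_mem hx, h⟩)) (by
          rw [hF, Finset.disjoint_left]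
          intro p hp hp'
          rw [Finset.mem_inv_smul_finset_iff] at hp
          refine Finset.disjoint_left.1 (absFour_disjoint hle he) hp ?_
          rw [← h1]; exact Finset.smul_mem_smul_finset hp')
      exact reach_even check_octad44 hx hle he (mul_mem hσ₁ hσ₂)
        (Golay.toSet (Golay.comb Trans.codeRoot2)) (baseSet 2) ∅ ∅
        (by rw [mul_smul, h3, smul_inv_smul]) (by rw [mul_smul, ← hF, h2, hF, h1])
        (by rw [smul_empty', Finset.card_eq_zero.1 h6'])
        (by rw [smul_empty', c8]) (by decide +kernel)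
  · have c8 : absSet x 8 = ∅ := Finset.card_eq_zero.1 (by omega)
    have c6 : absSet x 6 = ∅ := Finset.card_eq_zero.1 (by omega)
    rw [c8, c6, Finset.card_empty] at hn
    obtain ⟨σ, hσ, hs, hq⟩ := exists_octad_point Trans.dodecad_checks.2
      (s := bitSet x) ⟨bitSet_mem hx, h⟩ (by omega : (absSet x 4).card = 1) (absFour_disjoint hle he)
    exact reach_even check_dodecad4 hx hle he hσ _ (baseSet 1) ∅ ∅ hs hq
      (by rw [smul_empty', c6]) (by rw [smul_empty', c8]) (by decide +kernel)
  · have hcard : (bitSet x)ᶜ.card = 8 := by rw [Finset.card_compl, h]; simp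
    obtain ⟨σ, hσ, -, hs⟩ := Trans.codeTree_sound Trans.octad_checks.1
      (s := (bitSet x)ᶜ) ⟨compl_mem_supports (bitSet_mem hx), hcard⟩
      (Finset.disjoint_left.2 fun p _ hp => by simp [Golay.mem_toSet] at hp)
    exact reach_even check_sixteen hx hle he hσ (Golay.toSet (Golay.comb Trans.codeRoot0))ᶜ ∅ ∅ ∅
      (by rw [smul_compl', hs, compl_compl])
      (by rw [smul_empty', Finset.card_eq_zero.1 (by omega : (absSet x 4).card = 0)])
      (by rw [smul_empty', Finset.card_eq_zero.1 (by omega : (absSet x 6).card = 0)])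
      (by rw [smul_empty', Finset.card_eq_zero.1 (by omega : (absSet x 8).card = 0)])
      (by decide +kernel)
  · omega

/-! ### Odd vectors -/

theorem odd_normalize (hx : x ∈ leechLattice) (hodd : x none % 2 = 1) :
    ∃ y, Reach x y ∧ sqNorm y = sqNorm x ∧ ∀ p, y p % 4 = 1 := by
  have hb := (mem_leech_iff.1 hx).2.1
  refine ⟨monoFun 1 (bits x) x, reach_mono (one_mem _) hb hx, ?_, fun p => ?_⟩
  · refine Finset.sum_congr rfl fun i _ => ?_
    simp only [monoFun, Equiv.Perm.one_apply]; split <;> ring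
  · have := (mem_leech_iff.1 hx).1 p
    have hbp : bits x p = ((x p / 2 : ℤ) : ZMod 2) := rfl
    simp only [monoFun, Equiv.Perm.one_apply]
    rcases zmod_cast_even_or_odd (x p / 2) with ⟨h, h'⟩ | ⟨h, h'⟩
    · rw [if_neg (by rw [hbp, h']; decide)]; omega
    · rw [if_pos (hbp.trans h')]; omega

/-- The points with a given value. -/
def valPts (y : GolayPt → ℤ) (a : ℤ) : Finset GolayPt := Finset.univ.filter fun p => y p = a

theorem odd_value {y : GolayPt → ℤ} (hN : sqNorm y ≤ 80) (h4 : ∀ p, y p % 4 = 1) (p : GolayPt) :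
    y p = (if y p = -7 then -7 else if y p = 5 then 5 else if y p = -3 then -3 else 1) ∧
      y p ^ 2 = 1 + (if y p = -3 then 8 else 0) + (if y p = 5 then 24 else 0) +
        (if y p = -7 then 48 else 0) := by
  obtain ⟨h1, h2⟩ := abs_le_of_norm hN p
  have := h4 p
  revert h1 h2 this
  generalize y p = a
  intro h1 h2 he'
  interval_cases a <;> first | omega | decide

theorem odd_norm_eq {y : GolayPt → ℤ} (hN : sqNorm y ≤ 80) (h4 : ∀ p, y p % 4 = 1) :
    sqNorm y = 24 + 8 * ((valPts y (-3)).card : ℤ) + 24 * ((valPts y 5).card : ℤ) +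
      48 * ((valPts y (-7)).card : ℤ) := by
  have h : sqNorm y = ∑ p, (1 + (if y p = -3 then (8 : ℤ) else 0) + (if y p = 5 then 24 else 0) +
      (if y p = -7 then 48 else 0)) := Finset.sum_congr rfl fun p _ => (odd_value hN h4 p).2
  rw [Finset.sum_add_distrib, Finset.sum_add_distrib, Finset.sum_add_distrib, sum_indicator,
    sum_indicator, sum_indicator, sum_card_const] at h
  rw [h]; rfl

theorem reach_odd {y : GolayPt → ℤ} (hy : y ∈ leechLattice) (hN : sqNorm y ≤ 80)
    (h4 : ∀ p, y p % 4 = 1) {a : List ℤ} {cert : List (ℕ × ℕ × List ℤ)} {t : List ℤ}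
    (hc : (leechB (vecOf a) && chainB a cert t) = true)
    {σ : Equiv.Perm GolayPt} (hσ : σ ∈ M24) (T3 T5 : Finset GolayPt)
    (h3 : σ • T3 = valPts y (-3)) (h5 : σ • T5 = valPts y 5) (h7 : valPts y (-7) = ∅)
    (hpat : ∀ p, vecOf a p = if p ∈ T5 then 5 else if p ∈ T3 then -3 else 1) :
    Reach y (vecOf t) := by
  rw [Bool.and_eq_true] at hc
  have hcomp : y ∘ σ = vecOf a := by
    funext p
    rw [hpat, Function.comp_apply, (odd_value hN h4 (σ p)).1]
    have k7 : ¬ y (σ p) = -7 := fun h => by
      have : σ p ∈ valPts y (-7) := Finset.mem_filter.2 ⟨Finset.mem_univ _, h⟩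
      rw [h7] at this; simp at this
    have e : ∀ S T : Finset GolayPt, σ • S = T → (σ p ∈ T ↔ p ∈ S) := by
      intro S T h
      rw [← h, ← Equiv.Perm.smul_def, Finset.smul_mem_smul_finset_iff]
    have k3 := e _ _ h3
    have k5 := e _ _ h5
    simp only [valPts, Finset.mem_filter_univ] at k3 k5
    simp only [if_neg k7, k3, k5]
  exact (hcomp ▸ reach_comp hσ hy).trans (chain_sound _ _ _ hc.2 (mem_of_leechB hc.1))

theorem reach_odd32 (hx : x ∈ leechLattice) (hN : sqNorm x = 32) (hodd : x none % 2 = 1) :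
    Reach x (vecOf target32) := by
  obtain ⟨y, hr, hn, h4⟩ := odd_normalize hx hodd
  refine hr.trans ?_
  have hle : sqNorm y ≤ 80 := by omega
  have hc := odd_norm_eq hle h4
  obtain ⟨σ, hσ, hs⟩ := exists_smul_baseSet (by norm_num) (valPts y (-3)) (by omega : _ = 1)
  exact reach_odd hr.mem_right hle h4 check_odd3 hσ (baseSet 1) ∅ hs
    (by rw [smul_empty', Finset.card_eq_zero.1 (by omega : (valPts y 5).card = 0)])
    (Finset.card_eq_zero.1 (by omega)) (by decide +kernel)

theorem reach_odd48 (hx : x ∈ leechLattice) (hN : sqNorm x = 48) (hodd : x none % 2 = 1) :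
    Reach x (vecOf target48) := by
  obtain ⟨y, hr, hn, h4⟩ := odd_normalize hx hodd
  refine hr.trans ?_
  have hle : sqNorm y ≤ 80 := by omega
  have hc := odd_norm_eq hle h4
  rcases (by omega : ((valPts y (-3)).card = 3 ∧ (valPts y 5).card = 0) ∨
      ((valPts y (-3)).card = 0 ∧ (valPts y 5).card = 1)) with ⟨h3, h5⟩ | ⟨h3, h5⟩
  · obtain ⟨σ, hσ, hs⟩ := exists_smul_baseSet (by norm_num) (valPts y (-3)) h3
    exact reach_odd hr.mem_right hle h4 check_odd333 hσ (baseSet 3) ∅ hs
      (by rw [smul_empty', Finset.card_eq_zero.1 h5]) (Finset.card_eq_zero.1 (by omega))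
      (by decide +kernel)
  · obtain ⟨σ, hσ, hs⟩ := exists_smul_baseSet (by norm_num) (valPts y 5) h5
    exact reach_odd hr.mem_right hle h4 check_odd5 hσ ∅ (baseSet 1)
      (by rw [smul_empty', Finset.card_eq_zero.1 h3]) hs (Finset.card_eq_zero.1 (by omega))
      (by decide +kernel)

theorem reach_odd64 (hx : x ∈ leechLattice) (hN : sqNorm x = 64) (hodd : x none % 2 = 1) :
    Reach x (vecOf target64) := by
  obtain ⟨y, hr, hn, h4⟩ := odd_normalize hx hodd
  refine hr.trans ?_
  have hle : sqNorm y ≤ 80 := by omega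
  have hc := odd_norm_eq hle h4
  rcases (by omega : ((valPts y (-3)).card = 5 ∧ (valPts y 5).card = 0) ∨
      ((valPts y (-3)).card = 2 ∧ (valPts y 5).card = 1)) with ⟨h3, h5⟩ | ⟨h3, h5⟩
  · obtain ⟨σ, hσ, hs⟩ := exists_smul_baseSet le_rfl (valPts y (-3)) h3
    exact reach_odd hr.mem_right hle h4 check_odd33333 hσ (baseSet 5) ∅ hs
      (by rw [smul_empty', Finset.card_eq_zero.1 h5]) (Finset.card_eq_zero.1 (by omega))
      (by decide +kernel)
  · obtain ⟨q, hq⟩ := Finset.card_eq_one.1 h5
    have hnot : q ∉ valPts y (-3) := by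
      intro hm
      have h1 := (Finset.mem_filter.1 hm).2
      have h2 : y q = 5 := by
        have : q ∈ valPts y 5 := by rw [hq]; exact Finset.mem_singleton_self q
        exact (Finset.mem_filter.1 this).2
      omega
    have hnd : (q :: (valPts y (-3)).toList).Nodup :=
      List.nodup_cons.2 ⟨fun hm => hnot (Finset.mem_toList.1 hm), Finset.nodup_toList _⟩
    obtain ⟨σ, hσ, hmap⟩ := Trans.exists_map_base 3 (by norm_num) _ hnd (by simp [h3])
    have hb := smul_baseSet hmap
    have hmap1 : (Trans.basePt.take 1).map (fun i => σ (Golay.pt i)) = [q] := by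
      have := congrArg (List.take 1) hmap
      simpa [List.map_take, List.take_take] using this
    have h1 := smul_baseSet hmap1
    have hsplit : baseSet 3 \ baseSet 1 = ((Trans.basePt.take 3).drop 1 |>.map Golay.pt).toFinset := by
      decide +kernel
    have hs3 : σ • (baseSet 3 \ baseSet 1) = valPts y (-3) := by
      rw [Finset.smul_finset_sdiff, hb, h1, List.toFinset_cons, Finset.toList_toFinset]
      simp [Finset.insert_sdiff_of_mem, Finset.sdiff_singleton_eq_erase, hnot]
    exact reach_odd hr.mem_right hle h4 check_odd533 hσ (baseSet 3 \ baseSet 1) (baseSet 1) hs3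
      (by rw [h1, hq]; rfl) (Finset.card_eq_zero.1 (by omega)) (by decide +kernel)

theorem reach32 (hx : x ∈ leechLattice) (hN : sqNorm x = 32) : Reach x (vecOf target32) := by
  rcases Int.emod_two_eq_zero_or_one (x none) with h | h
  · exact reach_even32 hx hN fun p => ((mem_leech_iff.1 hx).1 p).trans h
  · exact reach_odd32 hx hN h

theorem reach48 (hx : x ∈ leechLattice) (hN : sqNorm x = 48) : Reach x (vecOf target48) := by
  rcases Int.emod_two_eq_zero_or_one (x none) with h | h
  · exact reach_even48 hx hN fun p => ((mem_leech_iff.1 hx).1 p).trans h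
  · exact reach_odd48 hx hN h

theorem reach64 (hx : x ∈ leechLattice) (hN : sqNorm x = 64) : Reach x (vecOf target64) := by
  rcases Int.emod_two_eq_zero_or_one (x none) with h | h
  · exact reach_even64 hx hN fun p => ((mem_leech_iff.1 hx).1 p).trans h
  · exact reach_odd64 hx hN h

/-- Transitivity on the vectors of squared length 32. -/
theorem transitive32 (v w : leechLattice) (hv : sqNorm (v : GolayPt → ℤ) = 32)
    (hw : sqNorm (w : GolayPt → ℤ) = 32) : ∃ g : Co0, g • v = w :=
  exists_smul_eq_of_reach ((reach32 v.2 hv).trans (reach32 w.2 hw).symm)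

/-- Transitivity on the vectors of squared length 48. -/
theorem transitive48 (v w : leechLattice) (hv : sqNorm (v : GolayPt → ℤ) = 48)
    (hw : sqNorm (w : GolayPt → ℤ) = 48) : ∃ g : Co0, g • v = w :=
  exists_smul_eq_of_reach ((reach48 v.2 hv).trans (reach48 w.2 hw).symm)

/-- Transitivity on the vectors of squared length 64. -/
theorem transitive64 (v w : leechLattice) (hv : sqNorm (v : GolayPt → ℤ) = 64)
    (hw : sqNorm (w : GolayPt → ℤ) = 64) : ∃ g : Co0, g • v = w :=
  exists_smul_eq_of_reach ((reach64 v.2 hv).trans (reach64 w.2 hw).symm)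

end CfsgLib.Leech.Orbits
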