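import Cfsg.Agent.Lib.Leech.Orbits.Engine

/-! Generated certificates: orbit representatives of short lattice vectors. -/

set_option autoImplicit false

namespace CfsgLib.Leech.Orbits

/-- The representative of a norm. -/
def target32 : List ℤ :=
  [4, 0, 0, 0, 0, 0, 0, 0, 0, 0, 0, 0, 0, 0, 0, 0, 0, 0, 0, 0, 0, 0, 0, 4]

/-- The representative of a norm. -/
def target48 : List ℤ :=
  [-1, -1, -1, -1, -1, -1, -1, -1, -1, -1, -1, -1, -1, -1, -1, -1, -1, -1, -1, -1, -1, -1, -1, -5]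

/-- The representative of a norm. -/
def target64 : List ℤ :=
  [0, 0, 0, 0, 0, 0, 0, 0, 0, 0, 0, 0, 0, 0, 0, 0, 0, 0, 0, 0, 0, 0, 0, 8]

/-- An absolute pattern of a shape. -/
def two4Vec : List ℤ :=
  [4, 0, 0, 0, 0, 0, 0, 0, 0, 0, 0, 0, 0, 0, 0, 0, 0, 0, 0, 0, 0, 0, 0, 4]

/-- Pivot words. -/
def two4Piv : List (ℕ × ℕ) :=
  [(0, 3027), (23, 1958)]

/-- Free positions. -/
def two4Free : List ℕ :=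
  []

/-- Certificates of the sign classes. -/
def two4Cert : List (List (ℕ × ℕ × List ℤ)) :=
  [[]]

/-- An absolute pattern of a shape. -/
def octadVec : List ℤ :=
  [2, 2, 2, 2, 2, 0, 0, 2, 0, 0, 2, 0, 2, 0, 0, 0, 0, 0, 0, 0, 0, 0, 0, 0]

/-- Pivot words. -/
def octadPiv : List (ℕ × ℕ) :=
  [(0, 2049), (1, 34), (2, 2660), (3, 2312), (4, 2064), (7, 3040), (10, 1536)]

/-- Free positions. -/
def octadFree : List ℕ :=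
  [12]

/-- Certificates of the sign classes. -/
def octadCert : List (List (ℕ × ℕ × List ℤ)) :=
  [[(100701267982540632688396858495209504, 2692, [2, 2, -2, 0, 0, 0, 0, 0, 2, 0, 0, -2, 2, 0, 0, 0, 0, 0, 2, 0, 0, 0, 0, 2]),
    (0, 0, [0, 0, 4, 0, 0, 0, 0, 0, 0, 0, 0, -4, 0, 0, 0, 0, 0, 0, 0, 0, 0, 0, 0, 0]),
    (113317119366763080901359750717479435, 3027, [4, 0, 0, 0, 0, 0, 0, 0, 0, 0, 0, 0, 0, 0, 0, 0, 0, 0, 0, 0, 0, 0, 0, 4])],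
  []]

/-- An absolute pattern of a shape. -/
def odd3Vec : List ℤ :=
  [1, 1, 1, 1, 1, 1, 1, 1, 1, 1, 1, 1, 1, 1, 1, 1, 1, 1, 1, 1, 1, 1, 1, -3]

/-- A certificate. -/
def odd3Cert : List (ℕ × ℕ × List ℤ) :=
  [(97985077685946281580844415439822056, 1201, [-1, 1, -3, 1, -1, -1, 1, -1, 1, 1, -1, 1, 1, 1, 1, 1, -1, 1, -1, 1, 1, 1, -1, 1]),
    (0, 0, [0, -2, 2, 0, 0, -2, 0, -2, 0, 0, -2, 0, 0, 2, 0, 0, 0, 0, -2, 0, 0, 0, 0, -2]),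
    (301409877564607557205699271685444695, 2929, [2, 2, -2, 0, 0, 0, 0, 0, 0, 2, -2, 0, 0, 0, 0, -2, 0, 0, 0, 0, -2, 0, 0, 2]),
    (0, 0, [0, 0, 4, 0, 0, 0, 0, 0, 0, 4, 0, 0, 0, 0, 0, 0, 0, 0, 0, 0, 0, 0, 0, 0]),
    (98866624465231927047171428091807881, 0, [4, 0, 0, 0, 0, 0, 0, 0, 0, 0, 0, 0, 0, 0, 0, 0, 0, 0, 0, 0, 0, 0, 0, 4])]

/-- An absolute pattern of a shape. -/
def dodecadVec : List ℤ :=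
  [2, 0, 2, 2, 2, 0, 2, 2, 2, 2, 2, 2, 0, 2, 2, 0, 0, 0, 0, 0, 0, 0, 0, 0]

/-- Pivot words. -/
def dodecadPiv : List (ℕ × ℕ) :=
  [(0, 35), (2, 36), (3, 40), (4, 18), (6, 98), (7, 162), (8, 288), (9, 512), (10, 1024), (11, 2050), (13, 2)]

/-- Free positions. -/
def dodecadFree : List ℕ :=
  [14]

/-- Certificates of the sign classes. -/
def dodecadCert : List (List (ℕ × ℕ × List ℤ)) :=
  [[(9757727229767582569203755920332038, 668, [2, 2, 0, 0, -2, 2, 2, 0, 2, 0, 2, 0, 0, 0, 2, 0, 2, 2, 0, 0, 0, 0, -2, 2]),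
    (0, 0, [1, 1, 3, -3, -1, -1, 1, -1, 1, -1, 1, -1, -1, 1, -1, -1, 3, -1, -1, -1, -1, -1, -1, 1]),
    (604905318870045111029853596061224337, 560, [-1, -1, -1, -1, 1, 1, 1, -1, -1, 3, 1, -1, -1, -1, 1, 3, -1, -1, -1, -1, -3, 1, 1, -1]),
    (0, 0, [-1, -1, -1, -1, 1, 1, 1, -1, 1, 1, -1, 1, 1, -1, 1, 1, -1, -1, 1, -1, -5, 1, 1, -1]),
    (849639132089241896279716129850874592, 2996, [-1, -1, -1, -1, -1, -1, -1, -1, -1, -1, -1, -1, -1, -1, -1, -1, -1, -1, -1, -1, -1, -1, -1, -5])],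
  []]

/-- An absolute pattern of a shape. -/
def octad4Vec : List ℤ :=
  [2, 2, 2, 2, 2, 0, 0, 2, 0, 0, 2, 0, 2, 0, 0, 0, 0, 0, 0, 0, 0, 0, 0, 4]

/-- Pivot words. -/
def octad4Piv : List (ℕ × ℕ) :=
  [(0, 2049), (1, 2594), (2, 2660), (3, 776), (4, 2064), (7, 480), (10, 3072), (23, 2560)]

/-- Free positions. -/
def octad4Free : List ℕ :=
  [12]

/-- Certificates of the sign classes. -/
def octad4Cert : List (List (ℕ × ℕ × List ℤ)) :=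
  [[],
  [(854842011998147946269121787431981675, 955, [0, 0, 2, -4, 0, -2, 2, 0, -2, 0, -2, 0, 0, -2, -2, 0, 0, 2, 0, 0, 0, 0, 0, 0]),
    (0, 0, [1, 1, -1, -1, 1, 1, 1, -1, -1, 1, -1, 1, 1, -1, 1, 1, 1, 5, 1, -1, 1, -1, 1, 1]),
    (731191410586561560211075431725612384, 2919, [-1, -1, -1, -1, -1, -1, -1, -1, -1, -1, -1, -1, -1, -1, -1, -1, -1, -1, -1, -1, -1, -1, -1, -5])]]

/-- An absolute pattern of a shape. -/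
def odd5Vec : List ℤ :=
  [1, 1, 1, 1, 1, 1, 1, 1, 1, 1, 1, 1, 1, 1, 1, 1, 1, 1, 1, 1, 1, 1, 1, 5]

/-- A certificate. -/
def odd5Cert : List (ℕ × ℕ × List ℤ) :=
  [(984818244535754528103549039458486304, 4095, [-1, -1, -1, -1, -1, -1, -1, -1, -1, -1, -1, -1, -1, -1, -1, -1, -1, -1, -1, -1, -1, -1, -1, -5])]

/-- An absolute pattern of a shape. -/
def odd333Vec : List ℤ :=
  [-3, -3, 1, 1, 1, 1, 1, 1, 1, 1, 1, 1, 1, 1, 1, 1, 1, 1, 1, 1, 1, 1, 1, -3]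

/-- A certificate. -/
def odd333Cert : List (ℕ × ℕ × List ℤ) :=
  [(0, 0, [-1, -1, -5, -1, -1, -1, -1, -1, -1, -1, -1, -1, -1, -1, -1, -1, -1, -1, -1, -1, -1, -1, -1, -1]),
    (87551893321887283366365293184594999, 0, [-1, -1, -1, -1, -1, -1, -1, -1, -1, -1, -1, -1, -1, -1, -1, -1, -1, -1, -1, -1, -1, -1, -1, -5])]

/-- An absolute pattern of a shape. -/
def one8Vec : List ℤ :=
  [0, 0, 0, 0, 0, 0, 0, 0, 0, 0, 0, 0, 0, 0, 0, 0, 0, 0, 0, 0, 0, 0, 0, 8]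

/-- Pivot words. -/
def one8Piv : List (ℕ × ℕ) :=
  [(23, 3189)]

/-- Free positions. -/
def one8Free : List ℕ :=
  []

/-- Certificates of the sign classes. -/
def one8Cert : List (List (ℕ × ℕ × List ℤ)) :=
  [[]]

/-- An absolute pattern of a shape. -/
def four4Vec : List ℤ :=
  [4, 4, 4, 0, 0, 0, 0, 0, 0, 0, 0, 0, 0, 0, 0, 0, 0, 0, 0, 0, 0, 0, 0, 4]

/-- Pivot words. -/
def four4Piv : List (ℕ × ℕ) :=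
  [(0, 3865), (1, 1226), (2, 2188), (23, 3040)]

/-- Free positions. -/
def four4Free : List ℕ :=
  []

/-- Certificates of the sign classes. -/
def four4Cert : List (List (ℕ × ℕ × List ℤ)) :=
  [[(196797938396637429666916622576107958, 3471, [0, 0, 0, 0, 4, 0, 0, 0, 0, 0, 0, 0, 0, -4, 0, 0, -4, 0, 0, 0, 0, 0, -4, 0]),
    (0, 0, [0, 0, 0, 0, 8, 0, 0, 0, 0, 0, 0, 0, 0, 0, 0, 0, 0, 0, 0, 0, 0, 0, 0, 0]),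
    (174170767301553238845147917032197207, 0, [0, 0, 0, 0, 0, 0, 0, 0, 0, 0, 0, 0, 0, 0, 0, 0, 0, 0, 0, 0, 0, 0, 0, 8])]]

/-- An absolute pattern of a shape. -/
def octad6Vec : List ℤ :=
  [2, 2, 2, 2, 0, 2, 0, 0, 0, 0, 0, 0, 0, 0, 2, 0, 0, 2, 0, 0, 0, 0, 0, 6]

/-- Pivot words. -/
def octad6Piv : List (ℕ × ℕ) :=
  [(0, 513), (1, 1490), (2, 1428), (3, 280), (5, 3040), (14, 528), (17, 3600)]

/-- Free positions. -/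
def octad6Free : List ℕ :=
  [23]

/-- Certificates of the sign classes. -/
def octad6Cert : List (List (ℕ × ℕ × List ℤ)) :=
  [[],
  [(56083727816151171955489287649867877, 633, [-2, 2, 2, 6, 0, -2, 0, 0, 0, 0, 0, 0, 0, 0, 2, 0, 0, -2, 0, 0, 0, 0, 0, 2]),
    (0, 0, [4, 0, 0, 4, 0, -4, 0, 0, 0, 0, 0, 0, 0, 0, 0, 0, 0, -4, 0, 0, 0, 0, 0, 0]),
    (435139174191506655570484589974008518, 1099, [0, 0, 0, 0, 0, 0, 0, 0, 0, -4, -4, 0, 0, 0, 0, 4, 0, 0, 0, 0, -4, 0, 0, 0]),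
    (0, 0, [0, 0, 0, 0, 0, 0, 0, 0, 0, 0, 0, 0, 0, 0, 0, 8, 0, 0, 0, 0, 0, 0, 0, 0]),
    (645267317966049346622286219446798688, 0, [0, 0, 0, 0, 0, 0, 0, 0, 0, 0, 0, 0, 0, 0, 0, 0, 0, 0, 0, 0, 0, 0, 0, 8])]]

/-- An absolute pattern of a shape. -/
def octad44Vec : List ℤ :=
  [4, 2, 2, 2, 2, 2, 0, 0, 2, 0, 0, 2, 0, 2, 0, 0, 0, 0, 0, 0, 0, 0, 0, 4]

/-- Pivot words. -/
def octad44Piv : List (ℕ × ℕ) :=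
  [(0, 1025), (1, 1090), (2, 1028), (3, 136), (4, 1040), (5, 608), (8, 896), (11, 3072), (23, 1536)]

/-- Free positions. -/
def octad44Free : List ℕ :=
  [13]

/-- Certificates of the sign classes. -/
def octad44Cert : List (List (ℕ × ℕ × List ℤ)) :=
  [[(893210795603373998838382619856863977, 2665, [0, 4, 4, 0, 0, 0, -2, 2, 0, -2, 2, 0, 0, 0, 0, 2, 0, 0, 0, -2, 2, -2, 0, 0]),
    (0, 0, [4, 0, 0, 0, 0, 0, 0, 4, 0, -4, 0, 0, 0, 0, 0, 0, 0, 0, 0, 0, 0, 0, 0, 4]),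
    (509524019468337762787379593239398582, 2476, [0, 0, 0, 0, 0, 0, 0, 0, 0, 4, 4, 0, 0, 0, 0, -4, 0, 0, 0, 0, 4, 0, 0, 0]),
    (0, 0, [0, 0, 0, 0, 0, 0, 0, 0, 0, 0, 0, 0, 0, 0, 0, -8, 0, 0, 0, 0, 0, 0, 0, 0]),
    (645267317966049346622286219446798688, 3189, [0, 0, 0, 0, 0, 0, 0, 0, 0, 0, 0, 0, 0, 0, 0, 0, 0, 0, 0, 0, 0, 0, 0, 8])],
  []]

/-- An absolute pattern of a shape. -/
def dodecad4Vec : List ℤ :=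
  [2, 0, 2, 2, 2, 0, 2, 2, 2, 2, 2, 2, 0, 2, 2, 0, 0, 0, 0, 0, 0, 0, 0, 4]

/-- Pivot words. -/
def dodecad4Piv : List (ℕ × ℕ) :=
  [(0, 35), (2, 36), (3, 10), (4, 48), (6, 98), (7, 128), (8, 258), (9, 512), (10, 1058), (11, 2080), (13, 2), (23, 34)]

/-- Free positions. -/
def dodecad4Free : List ℕ :=
  [14]

/-- Certificates of the sign classes. -/
def dodecad4Cert : List (List (ℕ × ℕ × List ℤ)) :=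
  [[],
  [(180635983529534235988835231226639951, 3953, [0, 0, 2, 2, -2, -4, 0, 0, -2, -2, -2, 0, 0, 0, 0, 2, 0, 2, 2, 0, -2, 0, 2, 2]),
    (0, 0, [2, 2, 0, 2, -2, -4, 0, 0, -2, 0, 0, 0, 0, 0, 0, 4, 0, 2, 2, 0, 0, 0, 2, 0]),
    (709549017255030193661700107189355620, 3384, [-2, 2, 2, -2, 0, -2, 0, -4, 0, 0, 0, 0, 0, 0, -2, 0, 0, 2, 0, -4, 0, 0, 0, 2]),
    (0, 0, [4, 0, 0, 0, 0, 0, 4, 0, 0, 0, 0, 0, 0, 0, 0, 0, 0, 4, 0, 0, 0, 4, 0, 0]),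
    (879221078876497446406466214029607942, 2828, [4, 4, -4, 0, 0, 0, 0, 0, 0, 0, 0, 0, 0, 0, 0, 0, 0, 0, 0, 0, 0, 0, 0, 4]),
    (0, 0, [0, 0, 8, 0, 0, 0, 0, 0, 0, 0, 0, 0, 0, 0, 0, 0, 0, 0, 0, 0, 0, 0, 0, 0]),
    (87551893321887283366365293184594999, 0, [0, 0, 0, 0, 0, 0, 0, 0, 0, 0, 0, 0, 0, 0, 0, 0, 0, 0, 0, 0, 0, 0, 0, 8])]]

/-- An absolute pattern of a shape. -/
def sixteenVec : List ℤ :=
  [0, 0, 0, 0, 0, 2, 2, 0, 2, 2, 0, 2, 0, 2, 2, 2, 2, 2, 2, 2, 2, 2, 2, 2]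

/-- Pivot words. -/
def sixteenPiv : List (ℕ × ℕ) :=
  [(5, 54), (6, 1112), (8, 398), (9, 659), (11, 2075), (13, 157), (14, 30), (15, 11), (16, 1045), (17, 1176), (18, 146)]

/-- Free positions. -/
def sixteenFree : List ℕ :=
  [19, 20, 21, 22, 23]

/-- Certificates of the sign classes. -/
def sixteenCert : List (List (ℕ × ℕ × List ℤ)) :=
  [[(632412519703271149136526356416415305, 625, [-2, 2, 2, 0, 0, 0, -2, 2, 2, -2, 2, 2, 2, 0, 0, -2, 0, 0, -2, -2, -2, -2, 0, 2]),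
    (0, 0, [4, 0, 0, 0, 0, 0, 0, 4, 0, 0, 4, 0, 0, 0, 0, 0, 0, 0, -4, 0, 0, 0, 0, 0]),
    (70469546113475713761085124420117108, 255, [0, 0, 0, 4, 0, -4, 0, 0, 0, 0, 0, 0, 0, 0, -4, 0, 0, -4, 0, 0, 0, 0, 0, 0]),
    (0, 0, [0, 0, 0, 8, 0, 0, 0, 0, 0, 0, 0, 0, 0, 0, 0, 0, 0, 0, 0, 0, 0, 0, 0, 0]),
    (130430215766561988943882167652005975, 0, [0, 0, 0, 0, 0, 0, 0, 0, 0, 0, 0, 0, 0, 0, 0, 0, 0, 0, 0, 0, 0, 0, 0, 8])],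
  [],
  [],
  [(632946126474680919768041311973846765, 2789, [-2, 2, -2, 2, 0, -2, 2, -2, 2, 0, 0, -2, -2, 0, -2, 0, 0, -2, -2, -2, 0, -2, 0, -2]),
    (0, 0, [0, -4, 0, 4, 0, 0, 4, 0, 4, 0, 0, 0, 0, 0, 0, 0, 0, 0, 0, 0, 0, 0, 0, 0]),
    (83371218987186691967360991408697909, 3655, [0, 0, 0, 0, 0, 0, 0, 0, 0, -4, 4, 0, 0, 0, 0, -4, 0, 0, 0, 0, -4, 0, 0, 0]),
    (0, 0, [0, 0, 0, 0, 0, 0, 0, 0, 0, 0, 8, 0, 0, 0, 0, 0, 0, 0, 0, 0, 0, 0, 0, 0]),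
    (434068111514984320108662193474543831, 0, [0, 0, 0, 0, 0, 0, 0, 0, 0, 0, 0, 0, 0, 0, 0, 0, 0, 0, 0, 0, 0, 0, 0, 8])],
  [],
  [(716700501583908759753981032356395721, 1076, [2, 2, -2, 2, -2, -2, 0, 0, 2, 0, 0, 2, -2, -2, -2, 0, 2, -2, 2, 0, 0, 0, -2, 2]),
    (0, 0, [0, 0, 4, 4, 0, 0, 0, 0, 0, 0, 0, 0, -4, 0, 0, 0, 4, 0, 0, 0, 0, 0, 0, 0]),
    (21666735216592716047654946778749684, 1692, [0, 0, 0, 0, -4, 0, 0, 0, 0, 0, 0, 0, 0, -4, 0, 0, 4, 0, 0, 0, 0, 0, -4, 0]),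
    (0, 0, [0, 0, 0, 0, 0, 0, 0, 0, 0, 0, 0, 0, 0, 0, 0, 0, 8, 0, 0, 0, 0, 0, 0, 0]),
    (688145640410724025682632677212540289, 0, [0, 0, 0, 0, 0, 0, 0, 0, 0, 0, 0, 0, 0, 0, 0, 0, 0, 0, 0, 0, 0, 0, 0, 8])],
  [(132793625586248858999583553017742660, 3352, [0, 0, 0, 2, -2, -2, 2, 2, 0, 2, -2, 0, 0, 2, -2, -2, 2, -2, 0, -2, -2, 2, 2, 0]),
    (0, 0, [0, 0, 0, 4, -4, 0, 0, 0, 0, 4, 0, 0, 0, 0, 0, 0, 0, 0, 0, -4, 0, 0, 0, 0]),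
    (425908155550440995287179662058994763, 3599, [0, 0, 0, 0, 0, 0, -4, -4, 0, 0, 0, 0, 0, 0, 0, 0, 0, 0, 0, -4, 0, 4, 0, 0]),
    (0, 0, [0, 0, 0, 0, 0, 0, 0, 0, 0, 0, 0, 0, 0, 0, 0, 0, 0, 0, 0, 0, 0, 8, 0, 0]),
    (901444215902188470208020324925722336, 0, [0, 0, 0, 0, 0, 0, 0, 0, 0, 0, 0, 0, 0, 0, 0, 0, 0, 0, 0, 0, 0, 0, 0, 8])],
  [],
  [],
  [(148454816913901068253542221568049292, 2034, [0, 0, 0, 0, -2, 0, -2, -2, -2, -2, 2, 2, 2, 2, 0, -2, -2, 0, 2, 2, -2, -2, -2, 0]),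
    (0, 0, [0, 0, 0, 0, 0, 0, 0, 0, -4, 0, 4, 0, 0, 4, 0, 0, 0, 0, 0, 4, 0, 0, 0, 0]),
    (296692910678629764319126418562143330, 2449, [0, 0, 0, 4, 0, 4, 0, 0, 0, 0, 0, 0, 0, 0, -4, 0, 0, 4, 0, 0, 0, 0, 0, 0]),
    (0, 0, [0, 0, 0, 0, 0, 0, 0, 0, 0, 0, 0, 0, 0, 0, -8, 0, 0, 0, 0, 0, 0, 0, 0, 0]),
    (606430463705032075921020289251791584, 3189, [0, 0, 0, 0, 0, 0, 0, 0, 0, 0, 0, 0, 0, 0, 0, 0, 0, 0, 0, 0, 0, 0, 0, 8])],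
  [(150091314488392543316229029595709508, 1361, [0, 0, 0, 2, -2, 2, 2, 2, -2, 0, 0, 2, -2, 2, -2, 0, 2, 2, -2, -2, 0, 2, 2, 0]),
    (0, 0, [0, 0, 0, 0, -4, 0, 0, 0, 0, 0, 0, 4, 0, 0, -4, 0, 0, 0, 0, -4, 0, 0, 0, 0]),
    (923262244049018690077029693411961367, 1552, [0, 0, 0, -4, 0, -4, 0, 0, 0, 0, 0, 0, 0, 0, -4, 0, 0, 4, 0, 0, 0, 0, 0, 0]),
    (0, 0, [0, 0, 0, 0, 0, 0, 0, 0, 0, 0, 0, 0, 0, 0, 0, 0, 0, 8, 0, 0, 0, 0, 0, 0]),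
    (731191410586561560211075431725612384, 0, [0, 0, 0, 0, 0, 0, 0, 0, 0, 0, 0, 0, 0, 0, 0, 0, 0, 0, 0, 0, 0, 0, 0, 8])],
  [],
  [(384275703658195791467670474952498676, 1008, [2, 2, 2, 2, 2, -2, 0, 0, -2, 0, 0, 2, 2, 2, 2, 0, -2, 2, 2, 0, 0, 0, 2, -2]),
    (0, 0, [0, 0, 0, 0, 0, -4, 0, 0, -4, 0, 0, 0, 0, 0, 0, 0, -4, 0, 0, 0, 0, 0, 0, 4]),
    (466583653111814766716440347304187907, 555, [0, 0, 0, 0, 0, 0, 0, 0, 0, 4, 4, 0, 0, 0, 0, 4, 0, 0, 0, 0, -4, 0, 0, 0]),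
    (0, 0, [0, 0, 0, 0, 0, 0, 0, 0, 0, 0, 0, 0, 0, 0, 0, 0, 0, 0, 0, 0, -8, 0, 0, 0]),
    (849639132089241896279716129850874592, 3189, [0, 0, 0, 0, 0, 0, 0, 0, 0, 0, 0, 0, 0, 0, 0, 0, 0, 0, 0, 0, 0, 0, 0, 8])],
  [],
  [],
  [(649038480441858884254081618969540331, 3263, [-2, -2, -2, -2, 2, -2, 0, 0, 2, 0, 0, 2, -2, 2, -2, 0, -2, 2, 2, 0, 0, 0, 2, 2]),
    (0, 0, [0, 0, 0, 0, 0, 0, 0, 0, 0, 0, 0, 0, -4, 0, 0, 0, -4, 4, 0, 0, 0, 0, 0, -4]),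
    (902981261955569550413661470519960739, 18, [0, 0, 0, 0, -4, 0, 0, 0, 0, 0, 0, 0, 0, -4, 0, 0, -4, 0, 0, 0, 0, 0, 4, 0]),
    (0, 0, [0, 0, 0, 0, 0, 0, 0, 0, 0, 0, 0, 0, 0, 0, 0, 0, 0, 0, 0, 0, 0, 0, 8, 0]),
    (928413874498667716355043516223936224, 0, [0, 0, 0, 0, 0, 0, 0, 0, 0, 0, 0, 0, 0, 0, 0, 0, 0, 0, 0, 0, 0, 0, 0, 8])],
  [],
  [(472926389757053528236435213114856022, 1333, [-2, 2, -2, 2, 0, -2, 0, 0, -2, 2, 2, 2, 2, 0, -2, 2, 0, -2, 2, 0, -2, 0, 0, -2]),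
    (0, 0, [0, -4, 0, 4, 0, 0, 0, 0, -4, 0, 0, 0, 0, 0, 0, 0, 0, 0, 0, 0, -4, 0, 0, 0]),
    (509319454822488183758058401001972896, 2420, [0, 0, 0, 0, -4, 0, 0, 0, 0, 0, 0, 0, 0, 4, 0, 0, 4, 0, 0, 0, 0, 0, 4, 0]),
    (0, 0, [0, 0, 0, 0, -8, 0, 0, 0, 0, 0, 0, 0, 0, 0, 0, 0, 0, 0, 0, 0, 0, 0, 0, 0]),
    (174170767301553238845147917032197207, 3189, [0, 0, 0, 0, 0, 0, 0, 0, 0, 0, 0, 0, 0, 0, 0, 0, 0, 0, 0, 0, 0, 0, 0, 8])],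
  [(179997717914470377011484560014609799, 2802, [0, 0, 0, 2, 0, -2, -2, -2, 2, 2, 2, -2, -2, 0, -2, -2, 0, -2, -2, -2, 2, 2, 0, 0]),
    (0, 0, [0, 0, 0, 4, 0, 0, 0, 0, 4, 0, 0, 0, 0, 0, 0, -4, 0, 0, 0, 0, 0, 4, 0, 0]),
    (500064328335115855753523390058866286, 2496, [0, 0, 0, 4, 0, 4, 0, 0, 0, 0, 0, 0, 0, 0, 4, 0, 0, -4, 0, 0, 0, 0, 0, 0]),
    (0, 0, [0, 0, 0, 0, 0, 0, 0, 0, 0, 0, 0, 0, 0, 0, 0, 0, 0, -8, 0, 0, 0, 0, 0, 0]),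
    (731191410586561560211075431725612384, 3189, [0, 0, 0, 0, 0, 0, 0, 0, 0, 0, 0, 0, 0, 0, 0, 0, 0, 0, 0, 0, 0, 0, 0, 8])],
  [],
  [(924736320746770819208024468898266292, 1233, [-2, 2, 2, 0, 2, 0, 0, 0, 2, 2, -2, 2, 2, -2, 0, -2, 2, 0, -2, 0, -2, 0, 2, 2]),
    (0, 0, [4, 0, 0, 0, 0, 0, 0, 0, 0, 4, 0, 0, 0, -4, 0, 0, 0, 0, -4, 0, 0, 0, 0, 0]),
    (49651462699938343783179151064314198, 2700, [0, 0, 0, 0, 0, 0, 0, 0, 0, 4, -4, 0, 0, 0, 0, -4, 0, 0, 0, 0, -4, 0, 0, 0]),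
    (0, 0, [0, 0, 0, 0, 0, 0, 0, 0, 0, 8, 0, 0, 0, 0, 0, 0, 0, 0, 0, 0, 0, 0, 0, 0]),
    (384415328876796863340241464600933399, 0, [0, 0, 0, 0, 0, 0, 0, 0, 0, 0, 0, 0, 0, 0, 0, 0, 0, 0, 0, 0, 0, 0, 0, 8])],
  [],
  [],
  [(778011261715157311839391097156683055, 399, [-2, -2, -2, 0, -2, 0, 2, 2, 0, 2, 2, 0, 0, 2, 0, 2, -2, 0, 0, -2, -2, 2, -2, 2]),
    (0, 0, [0, 0, 0, 0, 0, 0, 0, 0, 0, 0, 0, 0, 0, 4, 0, 0, 0, 0, 0, -4, -4, 0, 0, -4]),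
    (926038454270840277023776838903223617, 2614, [0, 0, 0, 0, 0, 0, 0, 0, 0, 4, -4, 0, 0, 0, 0, -4, 0, 0, 0, 0, -4, 0, 0, 0]),
    (0, 0, [0, 0, 0, 0, 0, 0, 0, 0, 0, 8, 0, 0, 0, 0, 0, 0, 0, 0, 0, 0, 0, 0, 0, 0]),
    (384415328876796863340241464600933399, 0, [0, 0, 0, 0, 0, 0, 0, 0, 0, 0, 0, 0, 0, 0, 0, 0, 0, 0, 0, 0, 0, 0, 0, 8])],
  [(395120461671379783919459839351211179, 2802, [2, -2, 2, 0, -2, 0, 0, 0, -2, -2, 2, -2, -2, 2, 0, 2, 2, 0, 2, 0, 2, 0, 2, 2]),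
    (0, 0, [0, 4, 0, 0, -4, 0, 0, 0, 0, -4, 0, 0, 0, 0, 0, 0, 0, 0, 4, 0, 0, 0, 0, 0]),
    (301364401832458669467940037858084175, 1165, [0, 0, 0, 0, 0, 0, 0, 0, -4, 0, 0, -4, -4, 0, 0, 0, 0, 0, 4, 0, 0, 0, 0, 0]),
    (0, 0, [0, 0, 0, 0, 0, 0, 0, 0, 0, 0, 0, 0, 0, 0, 0, 0, 0, 0, 8, 0, 0, 0, 0, 0]),
    (755859705571862642503515274234732567, 0, [0, 0, 0, 0, 0, 0, 0, 0, 0, 0, 0, 0, 0, 0, 0, 0, 0, 0, 0, 0, 0, 0, 0, 8])],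
  [],
  [],
  [(653424499377711336239888815147194672, 3405, [-2, 2, -2, 0, 2, 0, 0, 0, 2, 2, -2, 2, 2, 2, 0, -2, -2, 0, -2, 0, -2, 0, 2, -2]),
    (0, 0, [0, -4, 0, 0, 0, 0, 0, 0, 0, 4, 0, 0, 0, 0, 0, 0, -4, 0, -4, 0, 0, 0, 0, 0]),
    (226332012113070027435432614620845706, 1005, [0, 0, 0, 0, 0, 0, 0, 0, 0, -4, -4, 0, 0, 0, 0, -4, 0, 0, 0, 0, 4, 0, 0, 0]),
    (0, 0, [0, 0, 0, 0, 0, 0, 0, 0, 0, 0, 0, 0, 0, 0, 0, 0, 0, 0, 0, 0, 8, 0, 0, 0]),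
    (849639132089241896279716129850874592, 0, [0, 0, 0, 0, 0, 0, 0, 0, 0, 0, 0, 0, 0, 0, 0, 0, 0, 0, 0, 0, 0, 0, 0, 8])],
  [],
  [(641453114546151155879332645198646869, 1341, [2, 2, 2, -2, -2, -2, 2, 2, 0, 0, 0, 0, 0, 2, -2, 0, -2, 2, 0, -2, 0, 2, -2, -2]),
    (0, 0, [0, 0, 0, 0, 0, 0, 0, 0, 0, 0, 0, 0, 0, 4, 0, 0, 0, 4, 0, -4, 0, 0, 0, 4]),
    (849556643424356854803442937254560132, 1931, [0, 0, 0, 0, 0, 0, 0, 0, -4, 0, 0, -4, -4, 0, 0, 0, 0, 0, 4, 0, 0, 0, 0, 0]),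
    (0, 0, [0, 0, 0, 0, 0, 0, 0, 0, 0, 0, 0, 0, 0, 0, 0, 0, 0, 0, 8, 0, 0, 0, 0, 0]),
    (755859705571862642503515274234732567, 0, [0, 0, 0, 0, 0, 0, 0, 0, 0, 0, 0, 0, 0, 0, 0, 0, 0, 0, 0, 0, 0, 0, 0, 8])],
  [(934746638600763978453401443697512933, 2350, [2, -2, 2, 0, 2, 0, 0, 0, -2, 2, -2, -2, -2, 2, 0, -2, -2, 0, 2, 0, -2, 0, 2, 2]),
    (0, 0, [0, 4, 0, 0, 0, 0, 0, 0, 0, 4, 0, 0, 0, 0, 0, 0, -4, 0, 4, 0, 0, 0, 0, 0]),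
    (851988492393516177262131137159473829, 1978, [0, 0, 0, 0, -4, 0, 0, 0, 0, 0, 0, 0, 0, -4, 0, 0, -4, 0, 0, 0, 0, 0, 4, 0]),
    (0, 0, [0, 0, 0, 0, 0, 0, 0, 0, 0, 0, 0, 0, 0, 0, 0, 0, 0, 0, 0, 0, 0, 0, 8, 0]),
    (928413874498667716355043516223936224, 0, [0, 0, 0, 0, 0, 0, 0, 0, 0, 0, 0, 0, 0, 0, 0, 0, 0, 0, 0, 0, 0, 0, 0, 8])],
  []]

/-- An absolute pattern of a shape. -/
def odd533Vec : List ℤ :=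
  [-3, -3, 1, 1, 1, 1, 1, 1, 1, 1, 1, 1, 1, 1, 1, 1, 1, 1, 1, 1, 1, 1, 1, 5]

/-- A certificate. -/
def odd533Cert : List (ℕ × ℕ × List ℤ) :=
  [(104739884122791090285547395659408046, 3321, [-1, 1, 1, -1, -1, 3, -1, -1, 1, 5, -1, -1, -1, 1, -1, 1, 1, 1, -1, 1, -3, -1, 1, 1]),
    (0, 0, [2, 0, 0, -2, -2, 2, 0, 0, 2, 4, -2, 0, 0, 0, -2, 0, 0, 0, 0, 2, -4, 0, 0, 0]),
    (937373683085056854035568484422954292, 1736, [-4, 4, 0, -2, 0, 2, 2, -2, 0, 0, 0, 0, 0, 0, -2, 0, 0, -2, 0, -2, 0, -2, 0, 0]),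
    (0, 0, [4, -4, 0, 0, 0, 4, 4, 0, 0, 0, 0, 0, 0, 0, 0, 0, 0, 0, 0, 0, 0, 0, 0, 0]),
    (874515047106423470723896289006226948, 3046, [0, 0, 0, 0, 4, 0, 0, 0, 0, 0, 0, 0, 0, -4, 0, 0, 4, 0, 0, 0, 0, 0, 4, 0]),
    (0, 0, [0, 0, 0, 0, 0, 0, 0, 0, 0, 0, 0, 0, 0, -8, 0, 0, 0, 0, 0, 0, 0, 0, 0, 0]),
    (556307603819288122755210357338390551, 3189, [0, 0, 0, 0, 0, 0, 0, 0, 0, 0, 0, 0, 0, 0, 0, 0, 0, 0, 0, 0, 0, 0, 0, 8])]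

/-- An absolute pattern of a shape. -/
def odd33333Vec : List ℤ :=
  [-3, -3, -3, -3, 1, 1, 1, 1, 1, 1, 1, 1, 1, 1, 1, 1, 1, 1, 1, 1, 1, 1, 1, -3]

/-- A certificate. -/
def odd33333Cert : List (ℕ × ℕ × List ℤ) :=
  [(695171288915340294961566972823929163, 954, [1, -1, -3, -1, -1, -1, 1, -1, -1, -1, -3, -3, 1, -1, 1, -1, 1, 3, 1, 1, -1, 1, 3, 1]),
    (0, 0, [-2, 0, 2, -2, -2, -2, 0, -2, 0, 2, 0, -2, 2, -2, 0, 2, 0, 2, 2, 0, 2, 0, 2, -2]),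
    (220849423442817011429497878976496322, 2436, [2, 2, 2, 0, 0, 0, -2, -2, -2, 2, 2, 2, 2, 0, 0, -2, 0, 0, 2, 2, 2, -2, 0, -2]),
    (0, 0, [0, 0, 0, 0, 0, 0, 0, 0, -4, 0, 0, 0, 0, 0, 0, -4, 0, 0, 0, 4, 0, 0, 0, 4]),
    (924643370640586623662047795524833389, 3846, [0, 0, 0, 0, 4, 0, 0, 0, 0, 0, 0, 0, 0, -4, 0, 0, -4, 0, 0, 0, 0, 0, -4, 0]),
    (0, 0, [0, 0, 0, 0, 8, 0, 0, 0, 0, 0, 0, 0, 0, 0, 0, 0, 0, 0, 0, 0, 0, 0, 0, 0]),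
    (174170767301553238845147917032197207, 0, [0, 0, 0, 0, 0, 0, 0, 0, 0, 0, 0, 0, 0, 0, 0, 0, 0, 0, 0, 0, 0, 0, 0, 8])]

/-- The octad through the base points. -/
def octadSixMask : ℕ :=
  8536111

end CfsgLib.Leech.Orbits
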