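import Cfsg.Agent.Lib.Leech.Co0
import Cfsg.Agent.Lib.Leech.Trans.Engine

/-! Kernel checked paths between lattice vectors. -/

set_option autoImplicit false

namespace CfsgLib.Leech.Orbits

open Cfsg CfsgLib

/-- A vector from the list of its coordinates. -/
def vecOf (l : List ℤ) (p : GolayPt) : ℤ := l.getD (Golay.bit p) 0

/-- Signed permutation on a coordinate function. -/
def monoTbl (T cx : ℕ) (x : GolayPt → ℤ) : GolayPt → ℤ :=
  let M := Golay.comb cx
  fun p => bif M.testBit (Golay.bit p) then -x (Trans.tblFun T p) else x (Trans.tblFun T p)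

/-- Agreement on all 24 points. -/
def eqB (x y : GolayPt → ℤ) : Bool := (List.range 24).all fun i => x (Golay.pt i) == y (Golay.pt i)

theorem eq_of_eqB {x y : GolayPt → ℤ} (h : eqB x y = true) : x = y := by
  funext p
  simp only [eqB, List.all_eq_true, List.mem_range, beq_iff_eq] at h
  have := h (Golay.bit p) (Golay.bit_lt p)
  rwa [Golay.pt_bit] at this

/-- A checked path: code `0` is the extra automorphism, other codes are signed permutations. -/
def chainB (x : List ℤ) : List (ℕ × ℕ × List ℤ) → List ℤ → Bool
  | [], t => eqB (vecOf x) (vecOf t)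
  | (T, cx, y) :: l, t =>
    (if T = 0 then eqB (xiFun (vecOf x)) (vecOf y)
      else Trans.okT T && eqB (monoTbl T cx (vecOf x)) (vecOf y)) && chainB y l t

theorem monoFun_tbl {T : ℕ} (hT : Trans.okT T = true) (cx : ℕ) (x : GolayPt → ℤ) :
    monoFun (Trans.tblPerm T) (Golay.toWord (Golay.comb cx)) x = monoTbl T cx x := by
  funext p
  simp only [monoFun, monoTbl, Trans.tblPerm_apply hT, Golay.toWord]
  cases (Golay.comb cx).testBit (Golay.bit p) <;> simp

theorem chain_sound : ∀ (l : List (ℕ × ℕ × List ℤ)) (x t : List ℤ), chainB x l t = true →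
    vecOf x ∈ leechLattice → Reach (vecOf x) (vecOf t)
  | [], x, t, h, hx => by rw [← eq_of_eqB h]; exact Reach.refl hx
  | (T, cx, y) :: l, x, t, h, hx => by
    rw [chainB, Bool.and_eq_true] at h
    obtain ⟨h1, h2⟩ := h
    have hs : Reach (vecOf x) (vecOf y) := by
      split at h1
      · rw [← eq_of_eqB h1]; exact reach_xi hx
      · rw [Bool.and_eq_true] at h1
        rw [← eq_of_eqB h1.2, ← monoFun_tbl h1.1]
        exact reach_mono (Trans.tblPerm_mem h1.1) (Golay.toWord_comb_mem cx) hx
    exact hs.trans (chain_sound l y t h2 hs.mem_right)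

theorem leechB_of_mem {x : GolayPt → ℤ} (hx : x ∈ leechLattice) : leechB x = true := by
  rw [mem_leech_iff] at hx
  simp only [leechB, Bool.and_eq_true, List.all_eq_true, List.mem_range, beq_iff_eq]
  refine ⟨⟨fun i _ => hx.1 _, ?_⟩, hx.2.2⟩
  rw [← Golay.toWord_mem_iff (n := maskOf x) (Golay.bitsOf_lt _ _), toWord_maskOf]
  exact hx.2.1

/-- The signed version of an absolute pattern selected by a mask over the free positions. -/
def candList (a : List ℤ) (F : List ℕ) (m : ℕ) : List ℤ :=
  (List.range 24).map fun i =>
    if (List.range F.length).any (fun j => m.testBit j && Nat.beq (F.getD j 24) i) then -a.getD i 0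
    else a.getD i 0

/-- Check of a complete list of sign classes for one absolute pattern. -/
def caseB (a : List ℤ) (piv : List (ℕ × ℕ)) (F : List ℕ)
    (certs : List (List (ℕ × ℕ × List ℤ))) (t : List ℤ) : Bool :=
  piv.all (fun e => Nat.blt e.1 24 && (Golay.comb e.2).testBit e.1 &&
      piv.all fun e' => Nat.beq e.1 e'.1 || !(Golay.comb e.2).testBit e'.1) &&
    (List.range 24).all (fun i => decide (0 ≤ a.getD i 0) &&
      (a.getD i 0 == 0 || piv.any (fun e => Nat.beq e.1 i) || F.contains i)) &&
    Nat.beq certs.length (2 ^ F.length) &&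
    (List.range (2 ^ F.length)).all fun m =>
      !leechB (vecOf (candList a F m)) || chainB (candList a F m) (certs.getD m []) t

theorem case_sound {a : List ℤ} {piv : List (ℕ × ℕ)} {F : List ℕ}
    {certs : List (List (ℕ × ℕ × List ℤ))} {t : List ℤ} (h : caseB a piv F certs t = true)
    {x : GolayPt → ℤ} (hx : x ∈ leechLattice) (ha : ∀ p, |x p| = vecOf a p) :
    Reach x (vecOf t) := by
  simp only [caseB, Bool.and_eq_true, List.all_eq_true, List.mem_range, Bool.or_eq_true,
    Bool.not_eq_true', List.any_eq_true, Nat.beq_eq, Nat.blt_eq, beq_iff_eq, decide_eq_true_eq,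
    List.contains_eq_mem] at h
  obtain ⟨⟨⟨hpiv, hsup⟩, -⟩, hcert⟩ := h
  suffices H : ∀ l : List (ℕ × ℕ), (∀ e ∈ l, e ∈ piv) → ∀ x : GolayPt → ℤ, x ∈ leechLattice →
      (∀ p, |x p| = vecOf a p) → (∀ e ∈ piv, e ∈ l ∨ 0 ≤ x (Golay.pt e.1)) →
      Reach x (vecOf t) from
    H piv (fun e he => he) x hx ha (fun e he => Or.inl he)
  intro l
  induction l with
  | nil =>
    intro _ x hx ha hpos
    set m := Golay.bitsOf (fun j => decide (x (Golay.pt (F.getD j 24)) < 0)) F.length
    have hm : m < 2 ^ F.length := Golay.bitsOf_lt _ _
    have hxe : x = vecOf (candList a F m) := by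
      funext p
      set i := Golay.bit p with hi
      have hi24 : i < 24 := Golay.bit_lt p
      have hget : vecOf (candList a F m) p =
          if (List.range F.length).any (fun j => m.testBit j && Nat.beq (F.getD j 24) i) = true
          then -a.getD i 0 else a.getD i 0 := by
        simp only [vecOf, candList, ← hi]
        rw [List.getD_eq_getElem _ _ (by simpa using hi24), List.getElem_map, List.getElem_range]
      have hap := ha p
      simp only [vecOf, ← hi] at hap
      rw [hget]
      split
      next hneg =>
        simp only [List.any_eq_true, List.mem_range, Bool.and_eq_true, Nat.beq_eq] at hneg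
        obtain ⟨j, hj, hbit, hF⟩ := hneg
        simp only [m, Golay.testBit_bitsOf, hj, decide_true, Bool.true_and, decide_eq_true_eq, hF,
          hi, Golay.pt_bit] at hbit
        rw [abs_of_neg hbit] at hap; rw [hi] at hap ⊢; omega
      next hnneg =>
        rw [← hap]
        by_contra hne
        have hlt : x p < 0 := by
          by_contra hge
          exact hne (abs_of_nonneg (not_lt.1 hge)).symm
        have hne0 : a.getD i 0 ≠ 0 := by
          rw [← hap]; exact abs_ne_zero.2 (by omega)
        rcases (hsup i hi24).2 with (h0 | ⟨e, he, hei⟩) | hF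
        · exact hne0 h0
        · rcases hpos e he with hmem | hge
          · exact absurd hmem (List.not_mem_nil)
          · rw [hei, hi, Golay.pt_bit] at hge; omega
        · apply hnneg
          simp only [List.any_eq_true, List.mem_range, Bool.and_eq_true, Nat.beq_eq]
          obtain ⟨j, hj, hji⟩ := List.getElem_of_mem hF
          refine ⟨j, hj, ?_, by rw [List.getD_eq_getElem _ _ hj, hji]⟩
          simp only [m, Golay.testBit_bitsOf, hj, decide_true, Bool.true_and, decide_eq_true_eq,
            List.getD_eq_getElem _ _ hj, hji, hi, Golay.pt_bit]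
          exact hlt
    rw [hxe] at hx ⊢
    rcases hcert m hm with hb | hc
    · rw [leechB_of_mem hx] at hb; exact absurd hb (by decide)
    · exact chain_sound _ _ _ hc hx
  | cons e l ih =>
    intro hsub x hx ha hpos
    have hl : ∀ e' ∈ l, e' ∈ piv := fun e' he' => hsub e' (List.mem_cons_of_mem _ he')
    obtain ⟨⟨he24, hebit⟩, heother⟩ := hpiv e (hsub e List.mem_cons_self)
    rcases le_or_gt 0 (x (Golay.pt e.1)) with hge | hlt
    · refine ih hl x hx ha fun e' he' => ?_
      rcases hpos e' he' with hm | hm
      · rcases List.mem_cons.1 hm with rfl | hm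
        · exact Or.inr hge
        · exact Or.inl hm
      · exact Or.inr hm
    · have hc := Golay.toWord_comb_mem e.2
      have hr := reach_mono (one_mem M24) hc hx
      refine hr.trans (ih hl _ hr.mem_right (fun p => ?_) fun e' he' => ?_)
      · simp only [monoFun, Equiv.Perm.one_apply]; split <;> simp [ha p]
      · have hx' : e'.1 ≠ e.1 →
            monoFun 1 (Golay.toWord (Golay.comb e.2)) x (Golay.pt e'.1) = x (Golay.pt e'.1) := by
          intro hne
          rcases heother e' he' with h1 | h1
          · exact absurd h1.symm hne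
          · have hz : Golay.toWord (Golay.comb e.2) (Golay.pt e'.1) = 0 := by
              simp [Golay.toWord, Golay.bit_pt (hpiv e' he').1.1, h1]
            simp only [monoFun, Equiv.Perm.one_apply, hz]; simp
        by_cases heq : e'.1 = e.1
        · refine Or.inr ?_
          simp only [monoFun, Equiv.Perm.one_apply, Golay.toWord, heq, Golay.bit_pt he24, hebit,
            if_true]
          omega
        · rcases hpos e' he' with hm | hm
          · rcases List.mem_cons.1 hm with rfl | hm
            · exact absurd rfl heq
            · exact Or.inl hm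
          · exact Or.inr (by rw [hx' heq]; exact hm)

end CfsgLib.Leech.Orbits
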